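import Mathlib
import Groth.Agent.S9435

universe u

open AlgebraicGeometry CategoryTheory

namespace Groth.Agent.EtResidue

theorem closure_range_evaluation_eq_top {S : Scheme.{u}} {V : S.Opens} (hV : IsAffineOpen V) (s : S)
    (hs : s ∈ V) : Subfield.closure (Set.range (S.evaluation V s hs).hom) = ⊤ := by
  rw [eq_top_iff]
  intro z _
  let K := Subfield.closure (Set.range (S.evaluation V s hs).hom)
  obtain ⟨x, rfl⟩ := Ideal.Quotient.mk_surjective z
  let _ := (S.presheaf.germ V s hs).hom.toAlgebra
  have := hV.isLocalization_stalk ⟨s, hs⟩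
  obtain ⟨a, b, rfl⟩ := IsLocalization.exists_mk'_eq (hV.primeIdealOf ⟨s, hs⟩).asIdeal.primeCompl x
  have hb : IsUnit (S.presheaf.germ V s hs b.1) := IsLocalization.map_units (S.presheaf.stalk s) b
  have e : (S.residue s).hom (IsLocalization.mk' (S.presheaf.stalk s) a b) =
      (S.evaluation V s hs a) / (S.evaluation V s hs b.1) := by
    rw [eq_div_iff]
    · have := congrArg (S.residue s).hom (IsLocalization.mk'_spec (S.presheaf.stalk s) a b)
      rw [map_mul] at this
      exact this
    · exact ((hb.map (S.residue s).hom).ne_zero)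
  exact e ▸ div_mem (Subfield.subset_closure ⟨a, rfl⟩) (Subfield.subset_closure ⟨b.1, rfl⟩)

theorem exists_etale_nbhd (S : Scheme.{u}) (s : S) (k : Type u) [Field k]
    [Algebra (S.residueField s) k] [FiniteDimensional (S.residueField s) k]
    [Algebra.IsSeparable (S.residueField s) k] :
    ∃ (U : Scheme.{u}) (g : U ⟶ S) (u : U) (hu : g u = s), Etale g ∧
      letI := ((S.residueFieldCongr hu).inv ≫ g.residueFieldMap u).hom.toAlgebra
      Nonempty (k ≃ₐ[S.residueField s] U.residueField u) := by
  obtain ⟨V, hV, hs, -⟩ := exists_isAffineOpen_mem_and_subset (U := (⊤ : S.Opens)) (x := s) trivial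
  let R := Γ(S, V)
  let ev := (S.evaluation V s hs).hom
  let p : Ideal R := RingHom.ker ev
  have : p.IsPrime := RingHom.ker_isPrime ev
  let j : p.ResidueField →+* S.residueField s := Ideal.ResidueField.lift p ev le_rfl (fun x hx => by
    exact IsUnit.mk0 _ hx)
  have hj : ∀ r, j (algebraMap R p.ResidueField r) = ev r := fun r => Ideal.ResidueField.lift_algebraMap ..
  have hjsurj : Function.Surjective j := by
    intro z
    have hle : Subfield.closure (Set.range ev) ≤ j.fieldRange :=
      Subfield.closure_le.2 (by rintro _ ⟨r, rfl⟩; exact ⟨_, hj r⟩)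
    rw [closure_range_evaluation_eq_top hV s hs] at hle
    exact hle trivial
  let _ : Algebra p.ResidueField k := ((algebraMap (S.residueField s) k).comp j).toAlgebra
  let _ : Algebra R k := ((algebraMap (S.residueField s) k).comp ev).toAlgebra
  let _ : Algebra p.ResidueField (S.residueField s) := j.toAlgebra
  have : IsScalarTower p.ResidueField (S.residueField s) k := IsScalarTower.of_algebraMap_eq fun _ => rfl
  have : IsScalarTower R p.ResidueField k := IsScalarTower.of_algebraMap_eq fun r => by
    show algebraMap (S.residueField s) k (ev r) = algebraMap (S.residueField s) k (j _)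
    rw [hj]
  have : Module.Finite p.ResidueField (S.residueField s) :=
    Module.Finite.of_surjective (Algebra.linearMap _ _) hjsurj
  have : Module.Finite p.ResidueField k := Module.Finite.trans (S.residueField s) k
  have : Algebra.IsSeparable p.ResidueField (S.residueField s) :=
    ⟨fun z => by
      obtain ⟨y, rfl⟩ := hjsurj z
      exact isSeparable_algebraMap y⟩
  have : Algebra.IsSeparable p.ResidueField k := Algebra.IsSeparable.trans p.ResidueField (S.residueField s) k
  obtain ⟨R', _, _, _, ψ, hψ⟩ := Groth.Agent.S9435.result R p k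
  let g : Spec (CommRingCat.of R') ⟶ S := Spec.map (CommRingCat.ofHom (algebraMap R R')) ≫ hV.fromSpec
  let τ : Spec (CommRingCat.of k) ⟶ Spec (CommRingCat.of R') := Spec.map (CommRingCat.ofHom ψ.toRingHom)
  let κk : S.residueField s ⟶ CommRingCat.of k := CommRingCat.ofHom (algebraMap (S.residueField s) k)
  have hτ : τ ≫ g = Spec.map κk ≫ S.fromSpecResidueField s := by
    have h1 : S.fromSpecResidueField s = Spec.map (S.evaluation V s hs) ≫ hV.fromSpec := by
      rw [Scheme.fromSpecResidueField, ← hV.fromSpecStalk_eq_fromSpecStalk hs,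
        IsAffineOpen.fromSpecStalk, ← Spec.map_comp_assoc]
      rfl
    rw [h1]
    simp only [τ, g, κk, ← Spec.map_comp_assoc]
    refine congrArg (fun m => Spec.map m ≫ hV.fromSpec) ?_
    ext r
    exact ψ.commutes r
  let pt : ↥(Spec (CommRingCat.of k)) := IsLocalRing.closedPoint k
  let w := τ pt
  have hu : g w = s := by
    show g (τ pt) = s
    rw [← Scheme.Hom.comp_apply, hτ, Scheme.Hom.comp_apply, Scheme.fromSpecResidueField_apply]
  have het : Etale g := by
    have : Etale (Spec.map (CommRingCat.ofHom (algebraMap R R'))) := by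
      rw [HasRingHomProperty.Spec_iff (P := @Etale), CommRingCat.hom_ofHom, RingHom.etale_algebraMap]
      infer_instance
    infer_instance
  refine ⟨_, g, w, hu, het, ?_⟩
  letI := ((S.residueFieldCongr hu).inv ≫ g.residueFieldMap w).hom.toAlgebra
  let χ : (Spec (CommRingCat.of R')).residueField w ⟶ CommRingCat.of k :=
    Scheme.descResidueField (Scheme.stalkClosedPointTo τ)
  have hχ : Spec.map χ ≫ (Spec (CommRingCat.of R')).fromSpecResidueField w = τ :=
    Scheme.descResidueField_stalkClosedPointTo_fromSpecResidueField k _ τ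
  have hcomm : (S.residueFieldCongr hu).inv ≫ g.residueFieldMap w ≫ χ = κk := by
    apply Spec.map_injective
    rw [← cancel_mono (S.fromSpecResidueField s)]
    simp only [Spec.map_comp, Category.assoc, Scheme.residueFieldCongr_inv,
      Scheme.residueFieldCongr_fromSpecResidueField, Scheme.Hom.SpecMap_residueFieldMap_fromSpecResidueField]
    rw [← Category.assoc, hχ, hτ]
  have hsurj : Function.Surjective χ.hom := by
    intro z
    obtain ⟨σ, hσ⟩ := Spec.map_surjective ((Spec (CommRingCat.of R')).fromSpecResidueField w)
    have hσχ : σ ≫ χ = CommRingCat.ofHom ψ.toRingHom := by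
      apply Spec.map_injective
      rw [Spec.map_comp, hσ, hχ]
    have hle : Subfield.closure (Set.range ψ) ≤ χ.hom.fieldRange :=
      Subfield.closure_le.2 (by
        rintro _ ⟨r, rfl⟩
        exact ⟨σ.hom r, congr(($hσχ).hom r)⟩)
    rw [hψ] at hle
    exact hle trivial
  exact ⟨(AlgEquiv.ofBijective
    ({ toRingHom := χ.hom, commutes' := fun z => congr(($hcomm).hom z) } :
      (Spec (CommRingCat.of R')).residueField w →ₐ[S.residueField s] k)
    ⟨χ.hom.injective, hsurj⟩).symm⟩

end Groth.Agent.EtResidue
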